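import Groth.Agent.H56.RelPC.Bridge
import Groth.Agent.H56.RelPC.Closed
import Groth.Agent.H56.RelPC.Rules
import Groth.Agent.Lib.Perfect.PCCoh
import Groth.Agent.Lib.Cyc.PP.Push
import Groth.Agent.Lib.Snapper.Twist
import Groth.Agent.Lib.SchColim29.CohPush

/-!
Relative pseudo-coherence over a locally Noetherian base.
-/

set_option autoImplicit false
set_option linter.style.haveILetI false

universe u

open CategoryTheory Limits AlgebraicGeometry

attribute [local instance] HasDerivedCategory.standard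

namespace Groth.Agent.H56.RelPCNoeth

open Groth.Agent.Lib Groth.Agent.Lib.Perfect.Basic Groth.Agent.Lib.Perfect.PseudoCoh RelPC

theorem pcAt_inD_of_isCoh {X : Scheme.{u}} [IsLocallyNoetherian X] {M : X.Modules} (hM : Coh.IsCoh M)
    (m : ℤ) (x : X) : PCAt m (DCoh.inD X M) x := by
  have hle : (DCoh.inD X M).IsLE 0 :=
    inferInstanceAs (((DerivedCategory.singleFunctor X.Modules 0).obj M).IsLE 0)
  have hge : (DCoh.inD X M).IsGE 0 :=
    inferInstanceAs (((DerivedCategory.singleFunctor X.Modules 0).obj M).IsGE 0)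
  refine Perfect.PCCoh.pcAt_of_coh m (1 - m).toNat (DCoh.inD X M) 0 (by omega) hle (fun i _ hi => ?_) x
  rcases lt_or_eq_of_le hi with h | rfl
  · exact SchColim29.CohPush.isCoh_of_isZero (DerivedCategory.isZero_of_isGE _ 0 i h)
  · exact CohBasics.Closure.isCoh_of_iso (PCSingle.HDInD M).symm hM

variable {Y S : Scheme.{u}}

/-- A morphism locally of finite type to a locally Noetherian scheme is pseudo-coherent. -/
theorem pcBase_of_locallyNoetherian [IsLocallyNoetherian S] (g : Y ⟶ S) [LocallyOfFiniteType g] :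
    PCBase g := by
  intro W V hW hV h
  have hft : (g.appLE V W h).hom.FiniteType := LocallyOfFiniteType.finiteType_appLE g hV hW h
  haveI : IsNoetherianRing Γ(S, V) := IsLocallyNoetherian.component_noetherian ⟨V, hV⟩
  algebraize [(g.appLE V W h).hom]
  obtain ⟨n, φ, hφ⟩ := Algebra.FiniteType.iff_quotient_mvPolynomial''.1 ‹_›
  refine ⟨Fin n, inferInstance, φ.toRingHom, RingHom.ext fun r => φ.commutes r, hφ, ?_⟩
  haveI : IsClosedImmersion (Spec.map (CommRingCat.ofHom φ.toRingHom)) :=
    IsClosedImmersion.spec_of_surjective _ hφ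
  haveI : IsNoetherianRing (MvPolynomial (Fin n) Γ(S, V)) := inferInstance
  haveI : IsLocallyNoetherian (Spec (CommRingCat.of Γ(Y, W))) :=
    LocallyOfFiniteType.isLocallyNoetherian (Spec.map (CommRingCat.ofHom φ.toRingHom))
  exact fun m x => pcAt_inD_of_isCoh (Cyc.PP.Push.isCoh_push _ (Snapper.Twist.isCoh_structureModule _)) m x

variable [IsLocallyNoetherian S] (g : Y ⟶ S) [LocallyOfFiniteType g]

theorem pcD_iff_rel (m : ℤ) (K : DCoh.D Y) :
    DCoh.IsPseudoCoherentD m K ↔ DerSch.IsPseudoCoherentRel g m K :=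
  isPseudoCoherentD_iff_rel (pcBase_of_locallyNoetherian g) m K

omit [IsLocallyNoetherian S] [LocallyOfFiniteType g] in
theorem isQCohD_of_rel {K : DCoh.D Y} (h : DerSch.IsPseudoCoherentRelAll g K) : DCoh.IsQCohD K :=
  fun i => isQCoh_homology (h (i - 1)) i (by omega)

end Groth.Agent.H56.RelPCNoeth
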