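import Groth.Agent.H56.RelPCNoeth.Basic
import Groth.Agent.Lib.DerivedOX.RestrictRpush
import Groth.Agent.Lib.SchColim29.CohPush
import Groth.Agent.Lib.Modules.Support

/-!
Proper direct images of relatively pseudo-coherent objects over a locally Noetherian base.
-/

set_option autoImplicit false
set_option linter.style.haveILetI false

universe u

open CategoryTheory Limits AlgebraicGeometry

attribute [local instance] HasDerivedCategory.standard

namespace Groth.Agent.H56.RelPCNoeth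

open Groth.Agent.Lib Groth.Agent.Lib.DerivedOX Groth.Agent.Lib.Perfect.Basic Groth.Agent.Lib.Perfect.PseudoCoh RelPC

variable {X Y : Scheme.{u}}

theorem isQCohD_of_isCohD {K : DCoh.D X} (h : DCoh.IsCohD K) : DCoh.IsQCohD K := fun i => (h i).1

theorem hasP_PS (f : X ⟶ Y) [IsProper f] {K : DCoh.D X} (hK : DCoh.IsCohD K) :
    WayOut.Bounded.HasP (SchColim29.CohPush.PS f) K := fun i => by
  have hc : Coh.IsCoh (DCoh.HD K i) := hK i
  haveI : SheafOfModules.IsFiniteType (R := X.ringCatSheaf) (DCoh.HD K i) := hc.2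
  exact ⟨hc, Modules.Support.isClosed_support _, inferInstance⟩

variable [IsNoetherian Y] (f : X ⟶ Y) [IsProper f] [DCoh.HasRpush f]

/-- Proper direct image of a pseudo-coherent object bounded below on a Noetherian scheme. -/
theorem pcD_Rpush {E : DCoh.D X} (a : ℤ) [E.IsGE a] (hq : DCoh.IsQCohD E)
    (hE : ∀ m : ℤ, DCoh.IsPseudoCoherentD m E) :
    (∀ m : ℤ, DCoh.IsPseudoCoherentD m ((DCoh.Rpush f).obj E)) ∧
      ((DCoh.Rpush f).obj E).IsGE a ∧ ∃ c : ℤ, ((DCoh.Rpush f).obj E).IsLE c := by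
  haveI : IsLocallyNoetherian X := LocallyOfFiniteType.isLocallyNoetherian f
  haveI : CompactSpace X := QuasiCompact.compactSpace_of_compactSpace f
  haveI : IsNoetherian X := {}
  have hc : DCoh.IsCohD E := fun i => ((Perfect.PCCoh.isPseudoCoherentD_iff_coh E hq i).1 (hE i)).1 i le_rfl
  obtain ⟨b, hb⟩ := ((Perfect.PCCoh.isPseudoCoherentD_iff_coh E hq 0).1 (hE 0)).2
  have hc' := SchColim29.CohPush.isCohD_Rpush f E (hasP_PS f hc) a
  obtain ⟨c, hcc⟩ := SchColim29.CohPush.exists_isLE_Rpush f E (hasP_PS f hc) a b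
  exact ⟨fun m => (Perfect.PCCoh.isPseudoCoherentD_iff_coh _ (isQCohD_of_isCohD hc') m).2
    ⟨fun i _ => hc' i, c, hcc⟩, SchColim29.CohPush.Rpush_isGE f E a, c, hcc⟩

end Groth.Agent.H56.RelPCNoeth

namespace Groth.Agent.H56.RelPCNoeth

open Groth.Agent.Lib Groth.Agent.Lib.DerivedOX Groth.Agent.Lib.Perfect.Basic Groth.Agent.Lib.Perfect.PseudoCoh RelPC

variable {X Y S : Scheme.{u}} [IsLocallyNoetherian S] (p : X ⟶ S) (q : Y ⟶ S) [LocallyOfFiniteType p]
  [LocallyOfFiniteType q] (f : X ⟶ Y) [IsProper f] [DCoh.HasRpush f]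

/-- Proper direct images keep pseudo-coherence relative to a locally Noetherian base. -/
theorem pcRelAll_Rpush (E : DCoh.D X) (a : ℤ) [E.IsGE a] (hE : DerSch.IsPseudoCoherentRelAll p E) :
    DerSch.IsPseudoCoherentRelAll q ((DCoh.Rpush f).obj E) := fun m => by
  haveI : IsLocallyNoetherian Y := LocallyOfFiniteType.isLocallyNoetherian q
  refine isPseudoCoherentRel_of_openCover fun y => ?_
  obtain ⟨W, hW, hyW, -⟩ := exists_isAffineOpen_mem_and_subset (X := Y) (x := y) (U := ⊤) trivial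
  refine ⟨W, hyW, (pcD_iff_rel (W.ι ≫ q) m _).1 ?_⟩
  haveI : IsAffine (W : Scheme.{u}) := hW
  haveI : IsLocallyNoetherian (W : Scheme.{u}) := isLocallyNoetherian_of_isOpenImmersion W.ι
  haveI : IsNoetherian (W : Scheme.{u}) := {}
  haveI := Exists.hasRpush (f ∣_ W)
  let E' := (RD (f ⁻¹ᵁ W).ι).obj E
  haveI : E'.IsGE a := DR.ExactPush.isGE_map (Scheme.Modules.restrictFunctor (f ⁻¹ᵁ W).ι) ‹E.IsGE a›
  have h := (pcD_Rpush (f ∣_ W) (E := E') a (RpushQCoh.isQCohD_restrict (isQCohD_of_rel p hE) _) fun n =>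
    (iff_forall n _).2 fun x => PCAt.restrict (f ⁻¹ᵁ W).ι x
      ((iff_forall n E).1 ((pcD_iff_rel p n E).2 (hE n)) _)).1 m
  exact (iff_forall m _).2 fun x => ((iff_forall m _).1 h x).of_iso
    ((RestrictRpush.restrictD_Rpush_iso f W).app E).symm

end Groth.Agent.H56.RelPCNoeth
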